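import Groth.Prelude
import Groth.Agent.Popescu.EtaleNbhd
import Groth.Agent.AdicLim.Noetherian
import Groth.Agent.ResExt.Completion
import Mathlib

universe u
namespace Groth.Agent.SmoothLift

theorem finite_of_complete (P Q : Type u) [CommRing P] [IsNoetherianRing P] [CommRing Q] [Algebra P Q]
    (J : Ideal P) [IsAdicComplete J P] [IsHausdorff (J.map (algebraMap P Q)) Q]
    (n : ℕ) (b : Fin n → Q)
    (hb : ∀ y : Q, ∃ c : Fin n → P, y - ∑ i, c i • b i ∈ J.map (algebraMap P Q)) :
    Module.Finite P Q := by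
  haveI : IsHausdorff J Q := (IsHausdorff.map_algebraMap_iff (S := Q) (M := Q)).mp inferInstance
  haveI : IsAdicComplete J (Fin n → P) := AdicLim.isAdicComplete_of_finite _ _
  refine Module.Finite.of_surjective (Fintype.linearCombination P b)
    (surjective_of_mkQ_comp_surjective (I := J) ?_)
  intro y
  obtain ⟨y, rfl⟩ := Submodule.mkQ_surjective _ y
  obtain ⟨c, hc⟩ := hb y
  refine ⟨c, ?_⟩
  rw [LinearMap.comp_apply, Submodule.mkQ_apply, Submodule.mkQ_apply, Submodule.Quotient.eq,
    Ideal.smul_top_eq_map, Submodule.restrictScalars_mem, ← neg_mem_iff, neg_sub,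
    Fintype.linearCombination_apply]
  exact hc

theorem factor_evalₐ {R : Type u} [CommRing R] (I : Ideal R) {m n : ℕ} (h : m ≤ n)
    (x : AdicCompletion I R) :
    Ideal.Quotient.factor (Ideal.pow_le_pow_right h) (AdicCompletion.evalₐ I n x) =
      AdicCompletion.evalₐ I m x := by
  induction x using AdicCompletion.induction_on with
  | h a => simp only [AdicCompletion.evalₐ_mk, Ideal.Quotient.factor_mk]
           exact AdicCompletion.Ideal.mk_eq_mk I h a

theorem exists_lift_to_completion (V A C : Type u) [CommRing V] [CommRing A] [Algebra V A] [Algebra.Smooth V A]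
    [CommRing C] [Algebra V C] (JA : Ideal A) (JC : Ideal C) (hA : JA.FG) (hC : JC.FG)
    [IsNoetherianRing A]
    (hJ : ∀ (f : A →ₐ[V] AdicCompletion JC C), JA.map f.toRingHom ≤ JC.map (algebraMap C (AdicCompletion JC C)))
    (hJ' : ∀ (f : AdicCompletion JA A →ₐ[V] AdicCompletion JC C),
      JC.map (algebraMap C (AdicCompletion JC C)) ≤
        (JA.map (algebraMap A (AdicCompletion JA A))).map f.toRingHom)
    (φ₀ : (A ⧸ JA) →ₐ[V] (C ⧸ JC)) (hφ₀ : φ₀.toRingHom.Finite) :
    ∃ φ : AdicCompletion JA A →ₐ[V] AdicCompletion JC C,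
      φ.toRingHom.Finite ∧
      (AdicCompletion.evalOneₐ JC).toRingHom.comp φ.toRingHom =
        φ₀.toRingHom.comp (AdicCompletion.evalOneₐ JA).toRingHom := by
  obtain ⟨ψ, hψ⟩ := Popescu.exists_lift_completion (R := V) JC hC 0 A
    ((Ideal.quotientEquivAlgOfEq V (pow_one JC).symm).toAlgHom.comp (φ₀.comp (Ideal.Quotient.mkₐ V JA)))
  have hψ1 : ∀ a, AdicCompletion.evalOneₐ JC (ψ a) = φ₀ (Ideal.Quotient.mk JA a) := fun a => by
    rw [← AdicCompletion.factorₐ_evalₐ_one, hψ a]
    obtain ⟨c, hc⟩ := Ideal.Quotient.mk_surjective (φ₀ (Ideal.Quotient.mk JA a))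
    simp only [AlgHom.comp_apply, AlgEquiv.toAlgHom_eq_coe, AlgHom.coe_coe, Ideal.Quotient.mkₐ_eq_mk]
    rw [← hc]
    rfl
  have hker : ∀ n, ∀ a ∈ JA ^ n, ((AdicCompletion.evalₐ JC n).restrictScalars V).comp ψ a = 0 := by
    intro n a ha
    have h1 : ψ a ∈ (JC.map (algebraMap C (AdicCompletion JC C))) ^ n := by
      refine Ideal.pow_right_mono (hJ ψ) n ?_
      rw [← Ideal.map_pow]
      exact Ideal.mem_map_of_mem _ ha
    rw [← FormalStalk.ker_evalₐ JC hC n] at h1
    exact h1
  let g : (n : ℕ) → AdicCompletion JA A →ₐ[V] C ⧸ JC ^ n := fun n =>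
    (Ideal.Quotient.liftₐ _ (((AdicCompletion.evalₐ JC n).restrictScalars V).comp ψ) (hker n)).comp
      ((AdicCompletion.evalₐ JA n).restrictScalars V)
  have hg : ∀ {m n : ℕ} (hle : m ≤ n),
      (Ideal.Quotient.factorₐ V (Ideal.pow_le_pow_right hle)).comp (g n) = g m := by
    intro m n hle
    ext x
    obtain ⟨a, ha⟩ := Ideal.Quotient.mk_surjective (AdicCompletion.evalₐ JA n x)
    have ham : AdicCompletion.evalₐ JA m x = Ideal.Quotient.mk _ a := by
      rw [← factor_evalₐ JA hle x, ← ha]; rfl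
    simp only [g, AlgHom.comp_apply, AlgHom.restrictScalars_apply]
    rw [← ha, ham]
    exact factor_evalₐ JC hle (ψ a)
  let φ := AdicCompletion.liftAlgHom JC g hg
  have hone : ∀ x, AdicCompletion.evalOneₐ JC (φ x) = φ₀ (AdicCompletion.evalOneₐ JA x) := by
    intro x
    obtain ⟨a, ha⟩ := Ideal.Quotient.mk_surjective (AdicCompletion.evalₐ JA 1 x)
    rw [AdicCompletion.evalOneₐ_liftAlgHom, ← AdicCompletion.factorₐ_evalₐ_one JA, ← ha,
      Ideal.Quotient.factor_mk, ← hψ1, ← AdicCompletion.factorₐ_evalₐ_one]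
    simp only [g, AlgHom.comp_apply, AlgHom.restrictScalars_apply]
    rw [← ha]
    rfl
  refine ⟨φ, ?_, RingHom.ext hone⟩
  letI := φ₀.toRingHom.toAlgebra
  haveI : Module.Finite (A ⧸ JA) (C ⧸ JC) := hφ₀
  obtain ⟨k, s, hs⟩ := Module.Finite.exists_fin (R := A ⧸ JA) (M := C ⧸ JC)
  choose b hb using fun i => AdicCompletion.evalOneₐ_surjective JC (s i)
  haveI : IsNoetherianRing (AdicCompletion JA A) := ResExt.isNoetherianRing_adicCompletion JA hA
  haveI : IsAdicComplete JA (AdicCompletion JA A) := AdicCompletion.isAdicComplete hA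
  haveI : IsAdicComplete (JA.map (algebraMap A (AdicCompletion JA A))) (AdicCompletion JA A) :=
    (IsAdicComplete.map_algebraMap_iff _ _).2 inferInstance
  haveI : IsAdicComplete JC (AdicCompletion JC C) := AdicCompletion.isAdicComplete hC
  haveI : IsAdicComplete (JC.map (algebraMap C (AdicCompletion JC C))) (AdicCompletion JC C) :=
    (IsAdicComplete.map_algebraMap_iff _ _).2 inferInstance
  letI := φ.toRingHom.toAlgebra
  have heq : (JA.map (algebraMap A (AdicCompletion JA A))).map φ.toRingHom =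
      JC.map (algebraMap C (AdicCompletion JC C)) := by
    refine le_antisymm ?_ (hJ' φ)
    rw [Ideal.map_map]
    exact hJ (φ.comp (IsScalarTower.toAlgHom V A (AdicCompletion JA A)))
  haveI : IsHausdorff ((JA.map (algebraMap A (AdicCompletion JA A))).map
      (algebraMap (AdicCompletion JA A) (AdicCompletion JC C))) (AdicCompletion JC C) := by
    rw [RingHom.algebraMap_toAlgebra, heq]; infer_instance
  refine finite_of_complete _ _ (JA.map (algebraMap A (AdicCompletion JA A))) k b fun y => ?_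
  have hy : AdicCompletion.evalOneₐ JC y ∈ Submodule.span (A ⧸ JA) (Set.range s) := hs ▸ trivial
  obtain ⟨c, hc⟩ := (Submodule.mem_span_range_iff_exists_fun _).1 hy
  choose c' hc' using fun i => AdicCompletion.evalOneₐ_surjective JA (c i)
  refine ⟨c', ?_⟩
  rw [RingHom.algebraMap_toAlgebra, heq]
  have h0 : AdicCompletion.evalOneₐ JC (y - ∑ i, c' i • b i) = 0 := by
    rw [map_sub, map_sum, ← hc, sub_eq_zero]
    refine Finset.sum_congr rfl fun i _ => ?_
    rw [show c' i • b i = φ (c' i) * b i from rfl, map_mul, hone, hb, hc']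
    rfl
  have h1 := Popescu.mem_map_of_evalₐ_eq_zero JC hC 1 (x := y - ∑ i, c' i • b i) ?_
  · rwa [pow_one] at h1
  · obtain ⟨z, hz⟩ := Ideal.Quotient.mk_surjective (AdicCompletion.evalₐ JC 1 (y - ∑ i, c' i • b i))
    rw [← AdicCompletion.factorₐ_evalₐ_one, ← hz, Ideal.Quotient.factor_mk,
      Ideal.Quotient.eq_zero_iff_mem] at h0
    rw [← hz, Ideal.Quotient.eq_zero_iff_mem, pow_one]
    exact h0

end Groth.Agent.SmoothLift
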